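import Cfsg.Agent.U35.Roots

/-!
Every proper subgroup of `SU₃(5)` has index at least fifty.
-/

set_option autoImplicit false
set_option maxRecDepth 10000

open scoped Matrix

namespace Cfsg.Agent.U35

theorem col_uw : ∀ a : F25, psi (u (a, 0)) 0 1 = -F25.frob a ∧ psi (u (a, 0)) 1 1 = 1 ∧
    psi (u (a, 0)) 2 1 = 0 := by
  intro a
  rw [psi_u]
  simp [uMat]

/-- Fifty elements moving the middle point to different places. -/
def moves (k : F25 × Bool) : G35 := if k.2 then u (k.1, 0) * v (1, 0) else u (k.1, 0)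

theorem moves_sep : ∀ j k : F25 × Bool,
    let M := fun x : F25 × Bool => if x.2 then uMat (x.1, 0) * (wMat * uMat (1, 0) * wMat) else uMat (x.1, 0)
    M k 0 1 * M j 1 1 = M j 0 1 * M k 1 1 → M k 2 1 * M j 1 1 = M j 2 1 * M k 1 1 → j = k := by
  decide +kernel

theorem index_mid : 50 ≤ mid.index := by
  have hM : ∀ x : F25 × Bool, psi (moves x) =
      if x.2 then uMat (x.1, 0) * (wMat * uMat (1, 0) * wMat) else uMat (x.1, 0) := by
    rintro ⟨a, _ | _⟩ <;> simp [moves, psi_u, psi_v]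
  have hinj : Function.Injective fun k : F25 × Bool => (moves k : G35 ⧸ mid) := by
    intro j k h
    have hm : (moves j)⁻¹ * moves k ∈ mid := QuotientGroup.eq.1 h
    obtain ⟨h0, h2⟩ := mem_mid.1 hm
    have e : psi (moves k) = psi (moves j) * psi ((moves j)⁻¹ * moves k) := by
      rw [← map_mul, mul_inv_cancel_left]
    have c : ∀ i, psi (moves k) i 1 = psi (moves j) i 1 * psi ((moves j)⁻¹ * moves k) 1 1 := fun i => by
      rw [e, Matrix.mul_apply, Fin.sum_univ_three, h0, h2]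
      ring
    have s1 : psi (moves k) 0 1 * psi (moves j) 1 1 = psi (moves j) 0 1 * psi (moves k) 1 1 := by
      rw [c 0, c 1]; ring
    have s2 : psi (moves k) 2 1 * psi (moves j) 1 1 = psi (moves j) 2 1 * psi (moves k) 1 1 := by
      rw [c 2, c 1]; ring
    rw [hM, hM] at s1 s2
    exact moves_sep j k s1 s2
  have h := Nat.card_le_card_of_injective _ hinj
  rw [Nat.card_eq_fintype_card, Fintype.card_prod, F25.card_eq, Fintype.card_bool] at h
  exact h

theorem u_mem_stab (p : Par) : u p ∈ stab := by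
  rw [mem_stab, psi_u]
  simp [uMat]

theorem central_mem_mid (c : Fin 5) : u (0, c) ∈ mid := by
  rw [mem_mid, psi_u]
  simp [uMat, bOf]

theorem t_mem_mid (l : Sc) : t l ∈ mid := by
  rw [mem_mid, psi_t]
  simp [tMat]

theorem w_mem_mid : w ∈ mid := by
  rw [mem_mid, psi_w]
  simp [wMat]

theorem comm_central (p : Par) (c : Fin 5) : u p * u (0, c) * (u p)⁻¹ = u (0, c) := by
  rw [u_mul, ← central_comm, ← u_mul, mul_inv_cancel_right]

theorem t_central (l : Sc) (c : Fin 5) (hc : c ≠ 0) :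
    ∃ c' : Fin 5, c' ≠ 0 ∧ t l * u (0, c) * (t l)⁻¹ = u (0, c') :=
  ⟨(actP l (0, c)).2, (actP_central l c).2 hc, by
    rw [t_u_conj]; exact congrArg u (Prod.ext (actP_central l c).1 rfl)⟩

theorem bor_central (q : Par) (l : Sc) (c : Fin 5) (hc : c ≠ 0) :
    ∃ c' : Fin 5, c' ≠ 0 ∧ u q * t l * u (0, c) * (u q * t l)⁻¹ = u (0, c') := by
  obtain ⟨c', h0, h⟩ := t_central l c hc
  refine ⟨c', h0, ?_⟩
  rw [show u q * t l * u (0, c) * (u q * t l)⁻¹ = u q * (t l * u (0, c) * (t l)⁻¹) * (u q)⁻¹ by group,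
    h, comm_central]

theorem index_conj (H : Subgroup G35) (x : G35) :
    (H.comap (MulAut.conj x).toMonoidHom).index = H.index :=
  Subgroup.index_comap_of_surjective _ (MulAut.conj x).surjective

/-- A proper subgroup of index less than fifty has no root element. -/
theorem top_of_central {H : Subgroup G35} (hidx : H.index < 50) {c : Fin 5} (hc : c ≠ 0)
    (h : u (0, c) ∈ H) : H = ⊤ := by
  have hz := central_all hc h
  have h1 : ¬ H ≤ stab := fun hle => by
    have := Nat.le_of_dvd (Nat.pos_of_ne_zero H.index_ne_zero_of_finite) (Subgroup.index_dvd_of_le hle)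
    rw [index_stab] at this
    omega
  obtain ⟨g, hg, hgs⟩ := SetLike.not_le_iff_exists.1 h1
  obtain ⟨p, q, l, rfl⟩ := exists_of_not_mem hgs
  set H2 := H.comap (MulAut.conj (u p)).toMonoidHom with hH2
  refine eq_top_of_conj (x := u p) ?_
  have hidx2 : H2.index < 50 := by rw [hH2, index_conj]; exact hidx
  have hz2 : ∀ k, u (0, k) ∈ H2 := fun k => by
    rw [hH2, mem_conj, comm_central]; exact hz k
  have hv2 : ∀ k, v (0, k) ∈ H2 := by
    obtain ⟨c', hc', e⟩ := bor_central q l c hc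
    refine lower_all hc' ?_
    rw [hH2, mem_conj]
    have hm := mul_mem (mul_mem hg h) (inv_mem hg)
    have e' : u p * w * (u q * t l) * u (0, c) * (u p * w * (u q * t l))⁻¹ =
        u p * (w * (u q * t l * u (0, c) * (u q * t l)⁻¹) * w⁻¹) * (u p)⁻¹ := by group
    rwa [e', e, w_inv] at hm
  have h2 : ¬ H2 ≤ mid := fun hle => by
    have := Nat.le_of_dvd (Nat.pos_of_ne_zero H2.index_ne_zero_of_finite) (Subgroup.index_dvd_of_le hle)
    have := index_mid
    omega
  obtain ⟨x, hx, hxm⟩ := SetLike.not_le_iff_exists.1 h2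
  by_cases hxs : x ∈ stab
  · obtain ⟨r, m, rfl⟩ := exists_bor_of_mem hxs
    have hr : r.1 ≠ 0 := fun h0 => hxm <| by
      refine mul_mem ?_ (t_mem_mid m)
      rw [show r = (0, r.2) from Prod.ext h0 rfl]
      exact central_mem_mid _
    obtain ⟨c', hc', e⟩ := t_v m 1 (by decide)
    have hm := mul_mem (mul_mem hx (hv2 1)) (inv_mem hx)
    have e' : u r * t m * v (0, 1) * (u r * t m)⁻¹ = u r * (t m * v (0, 1) * (t m)⁻¹) * (u r)⁻¹ := by group
    rw [e', e] at hm
    exact tri_top hz2 hv2 r hr (conj_central hc' hm)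
  · obtain ⟨r, s, m, rfl⟩ := exists_of_not_mem hxs
    by_cases hr : r.1 = 0
    · have hx1 : w * (u s * t m) ∈ H2 := by
        have := mul_mem (inv_mem (show u r ∈ H2 by
          rw [show r = (0, r.2) from Prod.ext hr rfl]; exact hz2 _)) hx
        rwa [mul_assoc (u r) w, inv_mul_cancel_left] at this
      have hs : s.1 ≠ 0 := fun h0 => hxm <| by
        rw [show r = (0, r.2) from Prod.ext hr rfl, show s = (0, s.2) from Prod.ext h0 rfl]
        exact mul_mem (mul_mem (central_mem_mid _) w_mem_mid) (mul_mem (central_mem_mid _) (t_mem_mid m))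
      obtain ⟨c', hc', e⟩ := t_v m 1 (by decide)
      refine eq_top_of_conj (x := w) ?_
      have hw : ∀ g, g ∈ H2.comap (MulAut.conj w).toMonoidHom ↔ w * g * w ∈ H2 := fun g => by
        rw [mem_conj, w_inv]
      refine tri_top (fun k => (hw _).2 (hv2 k)) (fun k => (hw _).2 ?_) s hs (conj_central hc' ((hw _).2 ?_))
      · rw [v, show w * (w * u (0, k) * w) * w = (w * w) * u (0, k) * (w * w) by group, w_mul_w, one_mul,
          mul_one]
        exact hz2 k
      · have hm := mul_mem (mul_mem hx1 (hv2 1)) (inv_mem hx1)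
        have e' : w * (u s * t m) * v (0, 1) * (w * (u s * t m))⁻¹ =
            w * (u s * (t m * v (0, 1) * (t m)⁻¹) * (u s)⁻¹) * w⁻¹ := by group
        rwa [e', e, w_inv] at hm
    · obtain ⟨c', hc', e⟩ := bor_central s m 1 (by decide)
      have hm := mul_mem (mul_mem hx (hz2 1)) (inv_mem hx)
      have e' : u r * w * (u s * t m) * u (0, 1) * (u r * w * (u s * t m))⁻¹ =
          u r * (w * (u s * t m * u (0, 1) * (u s * t m)⁻¹) * w⁻¹) * (u r)⁻¹ := by group
      rw [e', e, w_inv] at hm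
      exact tri_top hz2 hv2 r hr (conj_central hc' hm)

theorem pow_fst (p : Par) : ∀ n : ℕ, ∃ q : Par, u p ^ n = u q ∧ q.1 = n * p.1
  | 0 => ⟨(0, 0), by rw [pow_zero, u_zero], by simp⟩
  | n + 1 => by
    obtain ⟨q, hq, h1⟩ := pow_fst p n
    exact ⟨mulP q p, by rw [pow_succ, hq, u_mul], by rw [mulP_fst, h1]; push_cast; ring⟩

theorem no_line : ∀ (a : F25) (k : Fin 5), a ≠ 0 → (actP ⟨F25.ofN 7, by decide⟩ (a, 0)).1 ≠
    F25.mk k 0 * a := by
  decide +kernel

theorem natCast_eq (n : ℕ) : (n : F25) = F25.mk ⟨n % 5, Nat.mod_lt _ (by norm_num)⟩ 0 := by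
  induction n with
  | zero => rfl
  | succ n ih =>
    rw [Nat.cast_succ, ih]
    have key : ∀ k : Fin 5, F25.mk k 0 + 1 = F25.mk (k + 1) 0 := by decide +kernel
    rw [key]
    congr 1
    apply Fin.ext
    simp [Fin.val_add]

theorem actP_fst : ∀ (l : Sc) (a : F25) (c : Fin 5), (actP l (a, c)).1 = (actP l (a, 0)).1 :=
  fun _ _ _ => rfl

/-- Some conjugate of a subgroup meets a given Sylow subgroup in a Sylow subgroup. -/
theorem exists_conj_meet {A : Type*} [Group A] [Finite A] {p : ℕ} [Fact p.Prime] (P : Sylow p A)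
    (H : Subgroup A) : ∃ g : A, ∃ k : ℕ,
      Nat.card ↥(H.comap (MulAut.conj g).toMonoidHom ⊓ (P : Subgroup A)) = p ^ k ∧
      ∃ m, Nat.card ↥(H.comap (MulAut.conj g).toMonoidHom) = p ^ k * m ∧ ¬ p ∣ m := by
  obtain ⟨S⟩ : Nonempty (Sylow p H) := inferInstance
  obtain ⟨Q, hQ⟩ := (S.2.map H.subtype).exists_le_sylow
  obtain ⟨g, hg⟩ := MulAction.exists_smul_eq A P Q
  set K := H.comap (MulAut.conj g).toMonoidHom with hK
  have hKc : Nat.card K = Nat.card H := Nat.card_congr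
    (Equiv.subtypeEquiv (MulAut.conj g).toEquiv fun x => Iff.rfl)
  have h1 : (S : Subgroup H).map H.subtype ≤ (K ⊓ (P : Subgroup A)).map (MulAut.conj g).toMonoidHom := by
    intro x hx
    have hxQ : x ∈ ((g • P : Sylow p A) : Subgroup A) := hg ▸ hQ hx
    rw [Sylow.coe_subgroup_smul] at hxQ
    obtain ⟨y, hy, rfl⟩ := Subgroup.mem_map.1 hxQ
    refine Subgroup.mem_map.2 ⟨y, ⟨?_, hy⟩, rfl⟩
    obtain ⟨z, -, hz⟩ := Subgroup.mem_map.1 hx
    exact (congrArg (· ∈ H) hz).mp z.2
  obtain ⟨k, hk⟩ := IsPGroup.iff_card.1 S.2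
  have h2 := Subgroup.card_dvd_of_le h1
  rw [Subgroup.card_map_of_injective H.subtype_injective,
    Subgroup.card_map_of_injective (MulAut.conj g).injective] at h2
  obtain ⟨j, hj⟩ := IsPGroup.iff_card.1 (P.2.to_le (show K ⊓ (P : Subgroup A) ≤ P from inf_le_right))
  have hd : p ^ j ∣ Nat.card H := by
    rw [← hj, ← hKc]; exact Subgroup.card_dvd_of_le inf_le_left
  have hjk : j = k := by
    have e1 := S.card_eq_multiplicity
    rw [show Nat.card (S : Subgroup H) = p ^ k from hk] at e1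
    have hp : 1 < p := (Fact.out : p.Prime).one_lt
    have e2 := (Fact.out : p.Prime).pow_dvd_iff_le_factorization Nat.card_pos.ne' |>.1 hd
    rw [show Nat.card (S : Subgroup H) = p ^ k from hk, hj] at h2
    have e3 := (Nat.pow_dvd_pow_iff_le_right hp).1 h2
    have e4 : k = (Nat.card H).factorization p := Nat.pow_right_injective hp e1
    omega
  refine ⟨g, k, hjk ▸ hj, Nat.card H / p ^ k, ?_, ?_⟩
  · rw [hKc, Nat.mul_div_cancel']
    rw [← hk]; exact Subgroup.card_subgroup_dvd_card _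
  · have e1 := S.card_eq_multiplicity
    rw [show Nat.card (S : Subgroup H) = p ^ k from hk] at e1
    rw [e1]
    exact Nat.not_dvd_ordCompl Fact.out Nat.card_pos.ne'

/-- No subgroup of index twenty-five is free of central root elements. -/
theorem no_index_25 {K : Subgroup G35} (hnz : ∀ c : Fin 5, c ≠ 0 → u (0, c) ∉ K) (hidx : K.index = 25)
    (hk : Nat.card ↥(K ⊓ sylP) = 5) : False := by
  let f : sylP ⧸ K.subgroupOf sylP → G35 ⧸ K :=
    Quotient.map' (fun y => (y : G35)) fun a b hab => by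
      rw [QuotientGroup.leftRel_apply] at hab ⊢
      exact hab
  have hfinj : Function.Injective f := by
    rintro ⟨a⟩ ⟨b⟩ hab
    have hab' : ((a : G35) : G35 ⧸ K) = ((b : G35) : G35 ⧸ K) := hab
    have h3 : (a : G35)⁻¹ * (b : G35) ∈ K := QuotientGroup.eq.1 hab'
    exact QuotientGroup.eq.2 h3
  have hsub : Nat.card ↥(K.subgroupOf sylP) = 5 := by
    rw [← Subgroup.inf_subgroupOf_right, Nat.card_congr (Subgroup.subgroupOfEquivOfLe inf_le_right).toEquiv, hk]
  have hfc : Nat.card (sylP ⧸ K.subgroupOf sylP) = Nat.card (G35 ⧸ K) := by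
    have h1 := (K.subgroupOf sylP).card_mul_index
    rw [hsub, card_sylP] at h1
    rw [← Subgroup.index, ← Subgroup.index, hidx]
    omega
  set tt : Sc := ⟨F25.ofN 7, by decide⟩ with htt
  obtain ⟨y, hy⟩ := ((Nat.bijective_iff_injective_and_card f).2 ⟨hfinj, hfc⟩).2 (t tt : G35 ⧸ K)
  obtain ⟨⟨y, p, hp⟩, rfl⟩ := QuotientGroup.mk_surjective y
  have hyK : y⁻¹ * t tt ∈ K := QuotientGroup.eq.1 hy
  rw [← hp, u_inv] at hyK
  obtain ⟨r, hr, hr1⟩ : ∃ r ∈ K ⊓ sylP, r ≠ 1 := by
    by_contra hno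
    push Not at hno
    rw [(K ⊓ sylP).eq_bot_iff_forall.2 hno, Subgroup.card_bot] at hk
    norm_num at hk
  obtain ⟨⟨a, c⟩, rfl⟩ := hr.2
  have ha : a ≠ 0 := by
    rintro rfl
    exact hnz c (fun h => hr1 (by rw [h, u_zero])) hr.1
  obtain ⟨s, hs⟩ : ∃ s : Par, u (negP p) * t tt * u (a, c) * (u (negP p) * t tt)⁻¹ = u s ∧
      s.1 = (actP tt (a, 0)).1 := by
    refine ⟨mulP (mulP (negP p) (actP tt (a, c))) (negP (negP p)), ?_, ?_⟩
    · rw [show u (negP p) * t tt * u (a, c) * (u (negP p) * t tt)⁻¹ =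
        u (negP p) * (t tt * u (a, c) * (t tt)⁻¹) * (u (negP p))⁻¹ by group, t_u_conj, u_inv, u_mul, u_mul]
    · rw [mulP_fst, mulP_fst, actP_fst tt a c]
      simp [negP]
  have hmem : u s ∈ K ⊓ sylP := by
    refine Subgroup.mem_inf.2 ⟨?_, ⟨s, rfl⟩⟩
    rw [← hs.1]
    exact mul_mem (mul_mem hyK hr.1) (inv_mem hyK)
  have hgen : Subgroup.zpowers (u (a, c)) = K ⊓ sylP := by
    refine Subgroup.eq_of_le_of_card_ge (Subgroup.zpowers_le.2 hr) ?_
    rw [hk, Nat.card_zpowers]
    have hd := Subgroup.orderOf_dvd_natCard _ hr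
    rw [hk] at hd
    exact le_of_eq ((Nat.dvd_prime (by norm_num)).1 hd |>.resolve_left (by
      simpa [orderOf_eq_one_iff] using hr1)).symm
  rw [← hgen, ← mem_powers_iff_mem_zpowers] at hmem
  obtain ⟨n, hn⟩ := hmem
  obtain ⟨q, hq, hq1⟩ := pow_fst (a, c) n
  have hsq : s = q := u_injective (hn.symm.trans hq)
  exact no_line a ⟨n % 5, Nat.mod_lt _ (by norm_num)⟩ ha (by rw [← htt, ← hs.2, hsq, hq1, natCast_eq])

theorem comm_key : ∀ c1 c2 : Fin 5,
    (mulP (mulP ((1 : F25), c1) (F25.ofN 7, c2)) (negP (mulP (F25.ofN 7, c2) ((1 : F25), c1)))).1 = 0 ∧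
    (mulP (mulP ((1 : F25), c1) (F25.ofN 7, c2)) (negP (mulP (F25.ofN 7, c2) ((1 : F25), c1)))).2 ≠ 0 := by
  decide +kernel

/-- A subgroup meeting the Sylow subgroup in twenty-five elements has a central root element. -/
theorem no_25 {K : Subgroup G35} (hnz : ∀ c : Fin 5, c ≠ 0 → u (0, c) ∉ K)
    (hk : Nat.card ↥(K ⊓ sylP) = 25) : False := by
  let E := {p : Par // u p ∈ K}
  let φ : E → ↥(K ⊓ sylP) := fun p => ⟨u p.1, p.2, p.1, rfl⟩
  have hφ : Function.Bijective φ := by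
    refine ⟨fun p q h => Subtype.ext (u_injective (congrArg Subtype.val h)), ?_⟩
    rintro ⟨_, hxK, p, rfl⟩
    exact ⟨⟨p, hxK⟩, rfl⟩
  have hE : Nat.card E = 25 := by rw [Nat.card_congr (Equiv.ofBijective φ hφ), hk]
  have hinj : Function.Injective fun p : E => p.1.1 := by
    intro p q hpq
    have hd : u (mulP (negP p.1) q.1) ∈ K := by
      rw [← u_mul, ← u_inv]; exact mul_mem (inv_mem p.2) q.2
    have h0 : (mulP (negP p.1) q.1).1 = 0 := by
      rw [mulP_fst]; show -p.1.1 + q.1.1 = 0; rw [show p.1.1 = q.1.1 from hpq, neg_add_cancel]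
    have hc : (mulP (negP p.1) q.1).2 = 0 := by
      by_contra hc
      rw [show mulP (negP p.1) q.1 = (0, (mulP (negP p.1) q.1).2) from Prod.ext h0 rfl] at hd
      exact hnz _ hc hd
    have h1 : u (mulP (negP p.1) q.1) = 1 := by
      rw [show mulP (negP p.1) q.1 = (0, 0) from Prod.ext h0 hc, u_zero]
    rw [← u_mul, ← u_inv, inv_mul_eq_one] at h1
    exact Subtype.ext (u_injective h1)
  have hsur := ((Nat.bijective_iff_injective_and_card _).2 ⟨hinj, by
    rw [hE, Nat.card_eq_fintype_card, F25.card_eq]⟩).2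
  obtain ⟨⟨⟨a1, c1⟩, m1⟩, ha1⟩ := hsur 1
  obtain ⟨⟨⟨a2, c2⟩, m2⟩, ha2⟩ := hsur (F25.ofN 7)
  obtain rfl : a1 = 1 := ha1
  obtain rfl : a2 = F25.ofN 7 := ha2
  obtain ⟨e1, e2⟩ := comm_key c1 c2
  refine hnz _ e2 ?_
  rw [← show _ = ((0 : F25), _) from Prod.ext e1 rfl, ← u_mul, ← u_inv, ← u_mul, ← u_mul]
  exact mul_mem (mul_mem m1 m2) (inv_mem (mul_mem m2 m1))

theorem bound {H : Subgroup G35} (hH : H ≠ ⊤) : 50 ≤ H.index := by
  by_contra hlt
  push Not at hlt
  have : Fact (Nat.Prime 5) := ⟨by norm_num⟩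
  have hpos : 0 < H.index := Nat.pos_of_ne_zero H.index_ne_zero_of_finite
  have hf : (Nat.card G35).factorization 5 = 3 := by
    rw [card_SU35, show 378000 = 5 ^ 3 * 3024 by norm_num, Nat.factorization_mul (by norm_num) (by norm_num),
      Nat.Prime.factorization_pow (by norm_num), Finsupp.add_apply, Finsupp.single_eq_same,
      Nat.factorization_eq_zero_of_not_dvd (by norm_num)]
  let P : Sylow 5 G35 := Sylow.ofCard sylP (by rw [card_sylP, hf]; norm_num)
  obtain ⟨g, k, hk, m, hm, hnd⟩ := exists_conj_meet P H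
  set K := H.comap (MulAut.conj g).toMonoidHom with hK
  replace hk : Nat.card ↥(K ⊓ sylP) = 5 ^ k := hk
  have hKidx : K.index = H.index := index_conj H g
  have hKne : K ≠ ⊤ := fun h => hH (eq_top_of_conj h)
  have hnz : ∀ c : Fin 5, c ≠ 0 → u (0, c) ∉ K := fun c hc hcm =>
    hKne (top_of_central (hKidx.trans_lt hlt) hc hcm)
  have hcard := K.card_mul_index
  rw [card_SU35, hm, hKidx] at hcard
  have hle : 5 ^ k ≤ 125 := by
    rw [← hk, ← card_sylP]
    exact Nat.le_of_dvd Nat.card_pos (Subgroup.card_dvd_of_le inf_le_right)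
  have hk3 : k ≤ 3 := (Nat.pow_le_pow_iff_right (by norm_num : 1 < 5)).1 (by omega)
  have hco : ∀ e, Nat.Coprime (5 ^ e) m := fun e =>
    ((Nat.Prime.coprime_iff_not_dvd (by norm_num)).2 hnd).pow_left e
  interval_cases k
  · have : 5 ^ 3 ∣ H.index := (hco 3).dvd_of_dvd_mul_left ⟨3024, by simpa using hcard⟩
    have := Nat.le_of_dvd hpos this
    omega
  · have : 5 ^ 2 ∣ H.index := (hco 2).dvd_of_dvd_mul_left ⟨3024, by
      simp only [pow_one, mul_assoc] at hcard
      omega⟩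
    obtain ⟨j, hj⟩ := this
    exact no_index_25 hnz (by omega) (by rw [hk, pow_one])
  · exact no_25 hnz (by rw [hk]; norm_num)
  · have hall : K ⊓ sylP = sylP :=
      Subgroup.eq_of_le_of_card_ge inf_le_right (by rw [hk, card_sylP]; norm_num)
    have h1 : u (0, 1) ∈ K ⊓ sylP := by rw [hall]; exact ⟨(0, 1), rfl⟩
    exact hnz 1 (by decide) h1.1

end Cfsg.Agent.U35
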