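import Cfsg.Agent.U35.Elements
import Cfsg.Agent.U35.Data

/-!
A subgroup of index fifty of `SU₃(5)` containing the centre.
-/

set_option autoImplicit false
set_option maxRecDepth 10000

open scoped Matrix

namespace Cfsg.Agent.U35

/-- The normal-form parameters of a code. -/
def parOf (n : ℕ) : Par := (F25.ofN (n % 25), ⟨n / 25 % 5, Nat.mod_lt _ (by norm_num)⟩)

/-- The scalar of a code. -/
def scOf (n : ℕ) : Sc :=
  if h : F25.ofN (n / 125 % 24 + 1) ≠ 0 then ⟨_, h⟩ else ⟨1, one_ne_zero⟩

/-- The decoded normal form. -/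
def decode (n : ℕ) : Option Par × (Par × Sc) :=
  (if n % 126 = 0 then none else some (parOf (n % 126 - 1)), (parOf (n / 126 % 125), scOf (n / 126)))

/-- The decoded element. -/
def el (n : ℕ) : G35 := nf (decode n)

/-- The decoded matrix. -/
def elM (n : ℕ) : Matrix (Fin 3) (Fin 3) F25 :=
  (match (decode n).1 with
    | none => 1
    | some p => uMat p * wMat) * (uMat (decode n).2.1 * tMat (decode n).2.2.1)

theorem psi_el (n : ℕ) : psi (el n) = elM n := by
  rw [el, elM, nf, bor, map_mul, map_mul, psi_u, psi_t]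
  congr 1
  rcases (decode n).1 with _ | p
  · exact map_one psi
  · rw [rep, map_mul, psi_u, psi_w]

theorem el_eq_mul {a b c : ℕ} (h : elM a * elM b = elM c) : el a * el b = el c :=
  psi_injective (by rw [map_mul, psi_el, psi_el, psi_el, h])

/-- Representative. -/
def rC (i : Fin 126) : ℕ := repCode.getD i.val 0

/-- Stabiliser element. -/
def kC (j : Fin 60) : ℕ := kCode.getD j.val 0

/-- An index below 126. -/
def f126 (n : ℕ) : Fin 126 := ⟨n % 126, Nat.mod_lt _ (by norm_num)⟩

/-- An index below 60. -/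
def f60 (n : ℕ) : Fin 60 := ⟨n % 60, Nat.mod_lt _ (by norm_num)⟩

/-- Generator code. -/
def gC (s : Fin 2) : ℕ := genCode.getD s.val 0

/-- Coset table. -/
def cos (s : Fin 2) (i : Fin 126) : Fin 126 := f126 ((![cosA, cosB] s).getD i.val 0)

/-- Stabiliser table. -/
def stt (s : Fin 2) (i : Fin 126) : Fin 60 := f60 ((![stA, stB] s).getD i.val 0)

/-- Stabiliser generator. -/
def kG (s : Fin 2) : Fin 60 := f60 (kGen.getD s.val 0)

/-- Stabiliser products. -/
def kT (s : Fin 2) (j : Fin 60) : Fin 60 := f60 ((![kTabA, kTabB] s).getD j.val 0)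

theorem rep_table : ∀ (s : Fin 2) (i : Fin 126), elM (gC s) * elM (rC i) =
    elM (rC (cos s i)) * elM (kC (stt s i)) := by
  decide +kernel

theorem k_table : ∀ (s : Fin 2) (j : Fin 60), elM (kC (kG s)) * elM (kC j) = elM (kC (kT s j)) := by
  decide +kernel

theorem rep_tree : ∀ i : Fin 126, i.val = 0 ∨ (repPar.getD i.val 0 < i.val ∧
    elM (rC i) = elM (gC (if repStep.getD i.val 0 = 0 then 0 else 1)) * elM (rC (f126 (repPar.getD i.val 0)))) := by
  decide +kernel

theorem k_tree : ∀ j : Fin 60, j.val = 0 ∨ (kPar.getD j.val 0 < j.val ∧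
    elM (kC j) = elM (kC (kG (if kStep.getD j.val 0 = 0 then 0 else 1))) * elM (kC (f60 (kPar.getD j.val 0)))) := by
  decide +kernel

/-- Product of a word in the generators. -/
def wordM : List Bool → Matrix (Fin 3) (Fin 3) F25
  | [] => 1
  | s :: l => elM (gC (if s then 1 else 0)) * wordM l

theorem k_words : wordM wordKA = elM (kC (kG 0)) ∧ wordM wordKB = elM (kC (kG 1)) := by
  decide +kernel

theorem code_facts : rC 0 = 0 ∧ kC 0 = 0 ∧ elM 0 = 1 ∧
    (∀ j : Fin 60, kC j % 126 = 0) ∧ (∀ i j : Fin 126, (decode (rC i)).1 = (decode (rC j)).1 → i = j) ∧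
    (∀ i j : Fin 60, (decode (kC i)).2 = (decode (kC j)).2 → i = j) := by
  decide +kernel

attribute [local irreducible] decode elM el rC kC

theorem el_zero : el 0 = 1 := psi_injective (by rw [psi_el, map_one, code_facts.2.2.1])

/-- The elements of the subgroup. -/
def prodEl (x : Fin 126 × Fin 60) : G35 := el (rC x.1) * el (kC x.2)

/-- The subgroup. -/
noncomputable def fifty : Subgroup G35 :=
  toSub
    { carrier := {g | ∀ x, g * prodEl x ∈ Set.range prodEl}
      one_mem' := fun x => ⟨x, (one_mul _).symm⟩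
      mul_mem' := fun {a b} ha hb x => by
        obtain ⟨y, hy⟩ := hb x
        rw [mul_assoc, ← hy]
        exact ha y }

theorem k_closed (j m : Fin 60) : ∃ n, el (kC j) * el (kC m) = el (kC n) := by
  induction hn : j.val using Nat.strong_induction_on generalizing j m with
  | h n ih =>
    rcases k_tree j with h0 | ⟨hlt, he⟩
    · refine ⟨m, ?_⟩
      rw [show j = 0 from Fin.ext h0, code_facts.2.1, el_zero, one_mul]
    · have hp : (f60 (kPar.getD j.val 0)).val = kPar.getD j.val 0 :=
        Nat.mod_eq_of_lt (hlt.trans j.isLt)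
      obtain ⟨n', hn'⟩ := ih _ (hn ▸ hlt) _ m hp
      rw [← el_eq_mul he.symm, mul_assoc, hn']
      exact ⟨_, el_eq_mul (k_table _ n')⟩

theorem gen_mem (s : Fin 2) : el (gC s) ∈ fifty := by
  intro x
  obtain ⟨n, hn⟩ := k_closed (stt s x.1) x.2
  refine ⟨(cos s x.1, n), ?_⟩
  have e : el (gC s) * el (rC x.1) = el (rC (cos s x.1)) * el (kC (stt s x.1)) :=
    psi_injective (by rw [map_mul, map_mul, psi_el, psi_el, psi_el, psi_el, rep_table])
  rw [prodEl, prodEl, ← mul_assoc, e, mul_assoc, hn]

theorem word_mem : ∀ (l : List Bool) (g : G35), psi g = wordM l → g ∈ fifty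
  | [], g, h => by
    rw [show g = 1 from psi_injective (h.trans (map_one psi).symm)]
    exact one_mem _
  | s :: l, g, h => by
    have := mul_mem (gen_mem (if s then 1 else 0)) (word_mem l ((el (gC (if s then 1 else 0)))⁻¹ * g) (by
      rw [map_mul, h, wordM, ← psi_el, ← mul_assoc, ← map_mul, inv_mul_cancel, map_one, one_mul]))
    rwa [mul_inv_cancel_left] at this

theorem k_mem (j : Fin 60) : el (kC j) ∈ fifty := by
  induction hn : j.val using Nat.strong_induction_on generalizing j with
  | h n ih =>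
    rcases k_tree j with h0 | ⟨hlt, he⟩
    · rw [show j = 0 from Fin.ext h0, code_facts.2.1, el_zero]
      exact one_mem _
    · rw [← el_eq_mul he.symm]
      refine mul_mem ?_ (ih _ (hn ▸ hlt) _ (Nat.mod_eq_of_lt (hlt.trans j.isLt)))
      have hg : ∀ s : Fin 2, el (kC (kG s)) ∈ fifty := by
        intro s
        fin_cases s
        · exact word_mem wordKA _ ((psi_el _).trans k_words.1.symm)
        · exact word_mem wordKB _ ((psi_el _).trans k_words.2.symm)
      exact hg _

theorem rep_mem (i : Fin 126) : el (rC i) ∈ fifty := by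
  induction hn : i.val using Nat.strong_induction_on generalizing i with
  | h n ih =>
    rcases rep_tree i with h0 | ⟨hlt, he⟩
    · rw [show i = 0 from Fin.ext h0, code_facts.1, el_zero]
      exact one_mem _
    · rw [← el_eq_mul he.symm]
      exact mul_mem (gen_mem _) (ih _ (hn ▸ hlt) _ (Nat.mod_eq_of_lt (hlt.trans i.isLt)))

theorem dec_inj : ∀ i j : Fin 126, (decode (rC i)).1 = (decode (rC j)).1 → i = j :=
  code_facts.2.2.2.2.1

theorem prodEl_injective : Function.Injective prodEl := by
  rintro ⟨i, j⟩ ⟨i', j'⟩ h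
  have hk : ∀ j : Fin 60, el (kC j) = bor (decode (kC j)).2 := fun j => by
    have : (decode (kC j)).1 = none := by rw [decode]; exact if_pos (code_facts.2.2.2.1 j)
    rw [el, nf, this, rep, one_mul]
  have h' : el (rC i) * bor (decode (kC j)).2 = el (rC i') * bor (decode (kC j')).2 := by
    rw [← hk, ← hk]; exact h
  have key : ∀ (n : ℕ) (b : Par × Sc), ∃ c, el n * bor b = nf ((decode n).1, c) := by
    intro n b
    have hm : bor (decode n).2 * bor b ∈ stab :=
      mul_mem ⟨(col_bor _).2.1, (col_bor _).2.2⟩ ⟨(col_bor _).2.1, (col_bor _).2.2⟩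
    obtain ⟨p, l, hpl⟩ := exists_bor_of_mem hm
    refine ⟨(p, l), ?_⟩
    rw [el, nf, nf, mul_assoc, hpl]
    rfl
  obtain ⟨c, hc⟩ := key (rC i) (decode (kC j)).2
  obtain ⟨c', hc'⟩ := key (rC i') (decode (kC j')).2
  rw [hc, hc'] at h'
  have h3 : (decode (rC i)).1 = (decode (rC i')).1 := (Prod.mk.inj (nf_injective h')).1
  have h4 : i = i' := dec_inj i i' h3
  subst h4
  have h2 : el (kC j) = el (kC j') := mul_left_cancel h
  rw [hk, hk] at h2
  rw [code_facts.2.2.2.2.2 j j' (bor_injective h2)]

theorem card_fifty : Nat.card fifty = 7560 := by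
  have hs : (fifty : Set G35) = Set.range prodEl := by
    ext g
    constructor
    · intro hg
      obtain ⟨x, hx⟩ := hg (0, 0)
      refine ⟨x, hx.trans ?_⟩
      rw [prodEl, code_facts.1, code_facts.2.1, el_zero, one_mul, mul_one]
    · rintro ⟨x, rfl⟩
      exact mul_mem (rep_mem x.1) (k_mem x.2)
  rw [← SetLike.coe_sort_coe, hs, ← Nat.card_congr (Equiv.ofInjective prodEl prodEl_injective)]
  simp

theorem index_fifty : fifty.index = 50 := by
  have h := fifty.card_mul_index
  rw [card_fifty, card_SU35] at h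
  omega

/-- Central index. -/
def cI (k : Fin 3) : Fin 60 := f60 (centIdx.getD k.val 0)

theorem cent_scalar : ∀ k : Fin 3, elM (kC (cI k)) = Matrix.diagonal (fun _ => elM (kC (cI k)) 0 0) := by
  decide +kernel

theorem cent_inj : ∀ j k : Fin 3, cI j = cI k → j = k := by decide +kernel

theorem center_le_fifty : Subgroup.center G35 ≤ fifty := by
  let φ : Fin 3 → Subgroup.center G35 := fun k => ⟨el (kC (cI k)), Subgroup.mem_center_iff.2 fun g => by
    apply psi_injective
    rw [map_mul, map_mul, psi_el, cent_scalar k]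
    exact (Matrix.scalar_commute _ (fun r => Commute.all _ _) _).eq.symm⟩
  have hinj : Function.Injective φ := by
    intro j k h
    have h2 : el (kC (cI j)) = el (kC (cI k)) := congrArg Subtype.val h
    have h3 := prodEl_injective (a₁ := (0, cI j)) (a₂ := (0, cI k))
      (by rw [prodEl, prodEl, h2])
    exact cent_inj j k (congrArg Prod.snd h3)
  have hsur := ((Nat.bijective_iff_injective_and_card φ).2 ⟨hinj, by
    rw [card_center_SU35, Nat.card_eq_fintype_card, Fintype.card_fin]⟩).2
  intro g hg
  obtain ⟨k, hk⟩ := hsur ⟨g, hg⟩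
  have : g = el (kC (cI k)) := (congrArg Subtype.val hk).symm
  rw [this]
  exact k_mem _

end Cfsg.Agent.U35
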