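import Cfsg.Agent.U35.Field

/-!
Root elements, torus and normal form in `SU₃(5)`.
-/

set_option autoImplicit false
set_option maxRecDepth 10000

open scoped Matrix

namespace Cfsg.Agent.U35

/-- The group under study. -/
abbrev G35 := Cfsg.SU 3 F25 5

/-- Parameters of the Sylow 5-subgroup. -/
abbrev Par := F25 × Fin 5

/-- The corner entry. -/
def bOf (p : Par) : F25 := ⟨2 * F25.nrm p.1, p.2⟩

/-- Unitriangular matrix. -/
def uMat (p : Par) : Matrix (Fin 3) (Fin 3) F25 := !![1, -F25.frob p.1, bOf p; 0, 1, p.1; 0, 0, 1]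

/-- The product of parameters. -/
def mulP (p q : Par) : Par := (p.1 + q.1, (bOf p + bOf q + -(F25.frob p.1 * q.1)).im)

/-- The inverse of a parameter. -/
def negP (p : Par) : Par := (-p.1, -(bOf p + -(F25.frob p.1 * -p.1)).im)

/-- The anti-diagonal matrix. -/
def wMat : Matrix (Fin 3) (Fin 3) F25 := !![0, 0, 1; 0, -1, 0; 1, 0, 0]

/-- Non-zero scalars. -/
abbrev Sc := {l : F25 // l ≠ 0}

/-- Diagonal matrix. -/
def tMat (l : F25) : Matrix (Fin 3) (Fin 3) F25 :=
  !![l, 0, 0; 0, (l * l) * (l * l), 0; 0, 0, ((l * l) * (l * l) * l)⁻¹]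

theorem u_ok : ∀ p : Par, (std (uMat p)).det = 1 ∧
    ∀ i j, form (fun k => std (uMat p) k i) (fun k => std (uMat p) k j) = if i = j then 1 else 0 := by
  decide +kernel

theorem t_ok : ∀ l : Sc, (std (tMat l.1)).det = 1 ∧
    ∀ i j, form (fun k => std (tMat l.1) k i) (fun k => std (tMat l.1) k j) = if i = j then 1 else 0 := by
  decide +kernel

theorem w_ok : (std wMat).det = 1 ∧
    ∀ i j, form (fun k => std wMat k i) (fun k => std wMat k j) = if i = j then 1 else 0 := by
  decide +kernel

/-- Elements of the Sylow 5-subgroup. -/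
def u (p : Par) : G35 := mk (uMat p) (u_ok p).1 (u_ok p).2

/-- Torus elements. -/
def t (l : Sc) : G35 := mk (tMat l.1) (t_ok l).1 (t_ok l).2

/-- The exchanging element. -/
def w : G35 := mk wMat w_ok.1 w_ok.2

theorem psi_u (p : Par) : psi (u p) = uMat p := psi_mk _ _ _

theorem psi_t (l : Sc) : psi (t l) = tMat l.1 := psi_mk _ _ _

theorem psi_w : psi w = wMat := psi_mk _ _ _

theorem w_mul_w : w * w = 1 := psi_injective (by rw [map_mul, map_one, psi_w]; decide +kernel)

theorem w_inv : w⁻¹ = w := inv_eq_of_mul_eq_one_right w_mul_w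

theorem bOf_mulP (p q : Par) : bOf (mulP p q) = bOf p + bOf q + -(F25.frob p.1 * q.1) := by
  refine F25.ext' ?_ rfl
  have h : ∀ a b : F25, 2 * F25.nrm (a + b) = 2 * F25.nrm a + 2 * F25.nrm b + (-(F25.frob a * b)).re := by
    decide +kernel
  exact h p.1 q.1

theorem mulP_fst (p q : Par) : (mulP p q).1 = p.1 + q.1 := rfl

theorem u_mul (p q : Par) : u p * u q = u (mulP p q) := by
  apply psi_injective
  rw [map_mul, psi_u, psi_u, psi_u]
  ext i j
  fin_cases i <;> fin_cases j <;>
    simp [uMat, Matrix.mul_apply, Fin.sum_univ_three, bOf_mulP, mulP_fst] <;> ring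

theorem mulP_negP : ∀ p : Par, mulP p (negP p) = (0, 0) := by decide +kernel

theorem u_zero : u (0, 0) = 1 := psi_injective (by rw [psi_u, map_one]; decide +kernel)

theorem u_inv (p : Par) : (u p)⁻¹ = u (negP p) :=
  inv_eq_of_mul_eq_one_right (by rw [u_mul, mulP_negP, u_zero])

theorem u_injective : Function.Injective u := fun p q h => by
  have e : uMat p = uMat q := by rw [← psi_u, ← psi_u, h]
  have h12 := congrFun (congrFun e 1) 2
  have h02 := congrFun (congrFun e 0) 2
  simp [uMat] at h12 h02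
  exact Prod.ext h12 (congrArg F25.im h02)

/-- The Sylow 5-subgroup. -/
def sylP : Subgroup G35 where
  carrier := Set.range u
  one_mem' := ⟨_, u_zero⟩
  mul_mem' := by
    rintro _ _ ⟨p, rfl⟩ ⟨q, rfl⟩
    exact ⟨_, (u_mul p q).symm⟩
  inv_mem' := by
    rintro _ ⟨p, rfl⟩
    exact ⟨_, (u_inv p).symm⟩

theorem card_sylP : Nat.card sylP = 125 := by
  have e : Par ≃ sylP := Equiv.ofInjective u u_injective
  rw [← Nat.card_congr e, Nat.card_eq_fintype_card]
  rfl

/-- The product of scalars. -/
def mulS (l m : Sc) : Sc := ⟨l.1 * m.1, mul_ne_zero l.2 m.2⟩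

theorem t_mul (l m : Sc) : t l * t m = t (mulS l m) := by
  apply psi_injective
  rw [map_mul, psi_t, psi_t, psi_t]
  ext i j
  fin_cases i <;> fin_cases j <;>
    simp [tMat, mulS, Matrix.mul_apply, Fin.sum_univ_three] <;> ring

theorem t_one : t ⟨1, one_ne_zero⟩ = 1 := psi_injective (by rw [psi_t, map_one]; decide +kernel)

/-- The torus action on parameters. -/
def actP (l : Sc) (p : Par) : Par :=
  let l2 := l.1 * l.1
  let l4 := l2 * l2
  (l4 * l4 * l.1 * p.1, (l4 * l2 * bOf p).im)

theorem t_u_mat : ∀ (l : Sc) (p : Par), tMat l.1 * uMat p = uMat (actP l p) * tMat l.1 := by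
  decide +kernel

theorem t_u (l : Sc) (p : Par) : t l * u p = u (actP l p) * t l :=
  psi_injective (by rw [map_mul, map_mul, psi_t, psi_u, psi_u, t_u_mat])

theorem t_u_conj (l : Sc) (p : Par) : t l * u p * (t l)⁻¹ = u (actP l p) := by
  rw [t_u, mul_inv_cancel_right]

theorem w_t : ∀ l : Sc, ∃ m : Sc, wMat * tMat l.1 = tMat m.1 * wMat := by decide +kernel

theorem w_t' (l : Sc) : ∃ m : Sc, w * t l = t m * w := by
  obtain ⟨m, hm⟩ := w_t l
  exact ⟨m, psi_injective (by rw [map_mul, map_mul, psi_w, psi_t, psi_t, hm])⟩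

/-! ### Normal form -/

/-- Coset representatives of the stabiliser of the first basis point. -/
def rep : Option Par → G35
  | none => 1
  | some p => u p * w

/-- Elements of the point stabiliser. -/
def bor (b : Par × Sc) : G35 := u b.1 * t b.2

/-- The normal form. -/
def nf (x : Option Par × (Par × Sc)) : G35 := rep x.1 * bor x.2

theorem col_bor (b : Par × Sc) : psi (bor b) 0 0 = b.2.1 ∧ psi (bor b) 1 0 = 0 ∧ psi (bor b) 2 0 = 0 := by
  simp [bor, map_mul, psi_u, psi_t, Matrix.mul_apply, Fin.sum_univ_three, uMat, tMat]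

theorem col_rep (p : Par) (b : Par × Sc) : psi (nf (some p, b)) 1 0 = p.1 * b.2.1 ∧
    psi (nf (some p, b)) 0 0 = bOf p * b.2.1 ∧ psi (nf (some p, b)) 2 0 = b.2.1 := by
  obtain ⟨h0, h1, h2⟩ := col_bor b
  have e : psi (nf (some p, b)) = uMat p * wMat * psi (bor b) := by
    rw [nf, rep, map_mul, map_mul, psi_u, psi_w]
  rw [e]
  simp [Matrix.mul_apply, Fin.sum_univ_three, uMat, wMat, h0, h1, h2]

theorem bor_injective : Function.Injective bor := fun b c h => by
  have hl : b.2 = c.2 := Subtype.ext (by rw [← (col_bor b).1, h, (col_bor c).1])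
  refine Prod.ext (u_injective ?_) hl
  simp only [bor, hl] at h
  exact mul_right_cancel h

theorem nf_none (b : Par × Sc) : nf (none, b) = bor b := one_mul _

theorem nf_injective : Function.Injective nf := by
  rintro ⟨x, b⟩ ⟨y, c⟩ h
  rcases x with _ | p <;> rcases y with _ | q
  · rw [nf_none, nf_none] at h
    rw [bor_injective h]
  · exfalso
    rw [nf_none] at h
    exact c.2.2 (by rw [← (col_rep q c).2.2, ← h, (col_bor b).2.2])
  · exfalso
    rw [nf_none] at h
    exact b.2.2 (by rw [← (col_rep p b).2.2, h, (col_bor c).2.2])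
  · have hl : b.2.1 = c.2.1 := by rw [← (col_rep p b).2.2, h, (col_rep q c).2.2]
    have h1 : p.1 = q.1 := by
      have := (col_rep p b).1.symm.trans ((congrArg (fun g => psi g 1 0) h).trans (col_rep q c).1)
      rw [hl] at this
      exact mul_right_cancel₀ c.2.2 this
    have h0 : bOf p = bOf q := by
      have := (col_rep p b).2.1.symm.trans ((congrArg (fun g => psi g 0 0) h).trans (col_rep q c).2.1)
      rw [hl] at this
      exact mul_right_cancel₀ c.2.2 this
    have hp : p = q := Prod.ext h1 (congrArg F25.im h0)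
    subst hp
    rw [show b = c from bor_injective (mul_left_cancel h)]

theorem card_nf : Nat.card (Option Par × (Par × Sc)) = 378000 := by
  simp only [Nat.card_eq_fintype_card, Fintype.card_prod, Fintype.card_option]
  rfl

theorem nf_bijective : Function.Bijective nf :=
  (Nat.bijective_iff_injective_and_card nf).2 ⟨nf_injective, card_nf.trans card_SU35.symm⟩

theorem nf_surjective : Function.Surjective nf := nf_bijective.2

/-! ### Subgroups -/

/-- A submonoid of a finite group as a subgroup. -/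
def toSub {A : Type*} [Group A] [Finite A] (S : Submonoid A) : Subgroup A where
  toSubmonoid := S
  inv_mem' {x} hx := by
    have h : x⁻¹ ∈ Submonoid.powers x := by
      rw [mem_powers_iff_mem_zpowers]
      exact inv_mem (Subgroup.mem_zpowers x)
    exact (Submonoid.powers_le.2 hx) h

/-- The stabiliser of the first basis point. -/
noncomputable def stab : Subgroup G35 :=
  toSub
    { carrier := {g | psi g 1 0 = 0 ∧ psi g 2 0 = 0}
      one_mem' := by simp
      mul_mem' := fun {g h} hg hh => by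
        simp only [Set.mem_ofPred_eq, map_mul, Matrix.mul_apply, Fin.sum_univ_three] at hg hh ⊢
        simp [hg.1, hg.2, hh.1, hh.2] }

/-- The stabiliser of the middle basis point. -/
noncomputable def mid : Subgroup G35 :=
  toSub
    { carrier := {g | psi g 0 1 = 0 ∧ psi g 2 1 = 0}
      one_mem' := by simp
      mul_mem' := fun {g h} hg hh => by
        simp only [Set.mem_ofPred_eq, map_mul, Matrix.mul_apply, Fin.sum_univ_three] at hg hh ⊢
        simp [hg.1, hg.2, hh.1, hh.2] }

theorem mem_stab {g : G35} : g ∈ stab ↔ psi g 1 0 = 0 ∧ psi g 2 0 = 0 := Iff.rfl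

theorem mem_mid {g : G35} : g ∈ mid ↔ psi g 0 1 = 0 ∧ psi g 2 1 = 0 := Iff.rfl

theorem exists_bor_of_mem {g : G35} (hg : g ∈ stab) : ∃ p l, g = u p * t l := by
  obtain ⟨⟨x, b⟩, rfl⟩ := nf_surjective g
  rcases x with _ | p
  · exact ⟨b.1, b.2, nf_none b⟩
  · exact absurd ((col_rep p b).2.2.symm.trans hg.2) b.2.2

theorem exists_of_not_mem {g : G35} (hg : g ∉ stab) : ∃ p q l, g = u p * w * (u q * t l) := by
  obtain ⟨⟨x, b⟩, rfl⟩ := nf_surjective g
  rcases x with _ | p
  · exact absurd ⟨(nf_none b).symm ▸ (col_bor b).2.1, (nf_none b).symm ▸ (col_bor b).2.2⟩ hg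
  · exact ⟨p, b.1, b.2, rfl⟩

theorem index_stab : stab.index = 126 := by
  have hs : (stab : Set G35) = Set.range bor := by
    ext g
    constructor
    · intro hg
      obtain ⟨p, l, rfl⟩ := exists_bor_of_mem hg
      exact ⟨(p, l), rfl⟩
    · rintro ⟨b, rfl⟩
      exact ⟨(col_bor b).2.1, (col_bor b).2.2⟩
  have hc : Nat.card stab = 3000 := by
    rw [← SetLike.coe_sort_coe, hs, ← Nat.card_congr (Equiv.ofInjective bor bor_injective),
      Nat.card_eq_fintype_card, Fintype.card_prod]
    rfl
  have h := stab.card_mul_index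
  rw [hc, card_SU35] at h
  omega

end Cfsg.Agent.U35
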