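import Cfsg.Prelude.Def_Classical
import Cfsg.Agent.Classical.HermGroup

/-!
The field with twenty-five elements with a decidable structure, and `SU₃(5)` written in a basis
`e, w, f` with `e, f` an isotropic pair.
-/

set_option autoImplicit false

open Cfsg.Agent.Classical Cfsg.Agent.Classical.Herm
open scoped Matrix

namespace Cfsg.Agent.U35

/-- The field with twenty-five elements, `re + im·r` with `r² = 2`. -/
structure F25 where
  /-- Rational part. -/
  re : Fin 5
  /-- Irrational part. -/
  im : Fin 5
  deriving DecidableEq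

namespace F25

theorem ext' {a b : F25} (h₁ : a.re = b.re) (h₂ : a.im = b.im) : a = b := by
  cases a; cases b; simp_all

open Fin.CommRing

/-- The underlying pairs. -/
def pairEquiv : Fin 5 × Fin 5 ≃ F25 where
  toFun p := ⟨p.1, p.2⟩
  invFun a := (a.re, a.im)

instance : Fintype F25 := Fintype.ofEquiv _ pairEquiv

instance : Zero F25 := ⟨⟨0, 0⟩⟩
instance : One F25 := ⟨⟨1, 0⟩⟩
instance : Inhabited F25 := ⟨⟨0, 0⟩⟩
instance : Add F25 := ⟨fun a b => ⟨a.re + b.re, a.im + b.im⟩⟩
instance : Neg F25 := ⟨fun a => ⟨-a.re, -a.im⟩⟩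
instance : Mul F25 := ⟨fun a b => ⟨a.re * b.re + 2 * (a.im * b.im), a.re * b.im + a.im * b.re⟩⟩

/-- The norm. -/
def nrm (a : F25) : Fin 5 := a.re * a.re - 2 * (a.im * a.im)

instance : Inv F25 :=
  ⟨fun a => ⟨a.re * (nrm a * nrm a * nrm a), -a.im * (nrm a * nrm a * nrm a)⟩⟩

theorem mul_def (a b : F25) :
    a * b = ⟨a.re * b.re + 2 * (a.im * b.im), a.re * b.im + a.im * b.re⟩ := rfl

theorem add_def (a b : F25) : a + b = ⟨a.re + b.re, a.im + b.im⟩ := rfl

instance : Field F25 where
  add_assoc a b c := ext' (by simp only [add_def]; ring) (by simp only [add_def]; ring)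
  zero_add := by decide +kernel
  add_zero := by decide +kernel
  nsmul := nsmulRec
  zsmul := zsmulRec
  neg_add_cancel := by decide +kernel
  add_comm := by decide +kernel
  left_distrib a b c := ext' (by simp only [mul_def, add_def]; ring) (by simp only [mul_def, add_def]; ring)
  right_distrib a b c := ext' (by simp only [mul_def, add_def]; ring) (by simp only [mul_def, add_def]; ring)
  zero_mul := by decide +kernel
  mul_zero := by decide +kernel
  mul_assoc a b c := ext' (by simp only [mul_def]; ring) (by simp only [mul_def]; ring)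
  one_mul := by decide +kernel
  mul_one := by decide +kernel
  mul_comm := by decide +kernel
  exists_pair_ne := ⟨0, 1, by decide⟩
  mul_inv_cancel := by decide +kernel
  inv_zero := rfl
  nnqsmul := _
  nnqsmul_def := fun _ _ => rfl
  qsmul := _
  qsmul_def := fun _ _ => rfl

theorem card_eq : Fintype.card F25 = 25 := rfl

/-- The automorphism of order two. -/
def frob : F25 →+* F25 where
  toFun a := ⟨a.re, -a.im⟩
  map_one' := rfl
  map_mul' := by decide +kernel
  map_zero' := rfl
  map_add' := by decide +kernel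

theorem frob_pow : ∀ a : F25, frob a = a ^ 5 := by
  have h : ∀ a : F25, frob a = a * ((a * a) * (a * a)) := by decide +kernel
  exact fun a => (h a).trans (by ring)

/-- An element from a number below twenty-five. -/
def ofN (n : ℕ) : F25 := ⟨⟨n % 5, Nat.mod_lt _ (by norm_num)⟩, ⟨n / 5 % 5, Nat.mod_lt _ (by norm_num)⟩⟩

end F25

/-- The Hermitian product. -/
def form (u v : Fin 3 → F25) : F25 := F25.frob (u 0) * v 0 + F25.frob (u 1) * v 1 + F25.frob (u 2) * v 2

/-- The new basis, as columns. -/
def cMat : Matrix (Fin 3) (Fin 3) F25 := !![1, 0, 3; 2, 0, 4; 0, 1, 0]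

/-- The inverse of the change of basis. -/
def cInv : Matrix (Fin 3) (Fin 3) F25 := !![3, 4, 0; 0, 0, 1; 1, 2, 0]

theorem c_inv : cInv * cMat = 1 ∧ cMat * cInv = 1 := by decide +kernel

/-- The standard matrix of a matrix in the new basis. -/
def std (M : Matrix (Fin 3) (Fin 3) F25) : Matrix (Fin 3) (Fin 3) F25 := cMat * M * cInv

/-- An element of `SU₃(5)` from a matrix in the new basis. -/
def mk (M : Matrix (Fin 3) (Fin 3) F25) (hd : (std M).det = 1)
    (h : ∀ i j, form (fun k => std M k i) (fun k => std M k j) = if i = j then 1 else 0) :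
    Cfsg.SU 3 F25 5 :=
  ⟨⟨std M, hd⟩, (mem_SU_iff F25.frob_pow _).2 ((preserves_iff_cols (std M)).2 fun i j => by
    simp only [Matrix.mulVec_single_one, hermB_apply, Fin.sum_univ_three]
    exact h i j)⟩

/-- The matrix of an element in the new basis. -/
def psi : Cfsg.SU 3 F25 5 →* Matrix (Fin 3) (Fin 3) F25 where
  toFun g := cInv * g.1.1 * cMat
  map_one' := by
    show cInv * (1 : Matrix (Fin 3) (Fin 3) F25) * cMat = 1
    rw [mul_one, c_inv.1]
  map_mul' g h := by
    show cInv * (g.1.1 * h.1.1) * cMat = cInv * g.1.1 * cMat * (cInv * h.1.1 * cMat)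
    calc cInv * (g.1.1 * h.1.1) * cMat = cInv * g.1.1 * 1 * (h.1.1 * cMat) := by
          rw [mul_one]; simp only [mul_assoc]
      _ = _ := by rw [← c_inv.2]; simp only [mul_assoc]

theorem psi_injective : Function.Injective psi := fun g h e => by
  apply Subtype.ext; apply Subtype.ext
  have e' : cMat * psi g * cInv = cMat * psi h * cInv := by rw [e]
  have k : ∀ x : Cfsg.SU 3 F25 5, cMat * psi x * cInv = x.1.1 := fun x => by
    show cMat * (cInv * x.1.1 * cMat) * cInv = x.1.1
    calc cMat * (cInv * x.1.1 * cMat) * cInv = (cMat * cInv) * x.1.1 * (cMat * cInv) := by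
          simp only [mul_assoc]
      _ = x.1.1 := by rw [c_inv.2, one_mul, mul_one]
  rwa [k, k] at e'

theorem psi_mk (M : Matrix (Fin 3) (Fin 3) F25) (hd h) : psi (mk M hd h) = M := by
  show cInv * (cMat * M * cInv) * cMat = M
  calc cInv * (cMat * M * cInv) * cMat = (cInv * cMat) * M * (cInv * cMat) := by simp only [mul_assoc]
    _ = M := by rw [c_inv.1, one_mul, mul_one]

theorem card_SU35 : Nat.card (Cfsg.SU 3 F25 5) = 378000 := by
  obtain ⟨σ, hσq, hσ, hq, -⟩ := exists_powHom (F := F25) (q := 5) (by rw [F25.card_eq]; norm_num)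
  have h := card_SU_mul_eq_GU (n := 3) hσ hσq hq (by norm_num)
  rw [card_GU_formula hσ hσq hq] at h
  simp [Finset.prod_range_succ, Nat.even_iff] at h
  omega

theorem card_center_SU35 : Nat.card (Subgroup.center (Cfsg.SU 3 F25 5)) = 3 := by
  obtain ⟨σ, hσq, hσ, hq, -⟩ := exists_powHom (F := F25) (q := 5) (by rw [F25.card_eq]; norm_num)
  exact (card_center_SU (n := 3) hσ hσq hq (by norm_num)).trans (by norm_num)

end Cfsg.Agent.U35
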