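import Cfsg.Agent.U35.Elements

/-!
Generation of `SU₃(5)` by root subgroups, and the lower bound 50 on indices of proper subgroups.
-/

set_option autoImplicit false
set_option maxRecDepth 10000

open scoped Matrix

namespace Cfsg.Agent.U35

/-- Membership in a conjugate, as a pullback. -/
theorem mem_conj {A : Type*} [Group A] {H : Subgroup A} {x g : A} :
    g ∈ H.comap (MulAut.conj x).toMonoidHom ↔ x * g * x⁻¹ ∈ H := Iff.rfl

/-- A subgroup with a full conjugate is full. -/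
theorem eq_top_of_conj {A : Type*} [Group A] {H : Subgroup A} {x : A}
    (h : H.comap (MulAut.conj x).toMonoidHom = ⊤) : H = ⊤ := by
  refine eq_top_iff.2 fun g _ => ?_
  have hg : x⁻¹ * g * x ∈ H.comap (MulAut.conj x).toMonoidHom := h ▸ Subgroup.mem_top _
  rw [mem_conj] at hg
  simpa [mul_assoc] using hg

/-- The lower root elements. -/
def v (p : Par) : G35 := w * u p * w

theorem psi_v (p : Par) : psi (v p) = wMat * uMat p * wMat := by rw [v, map_mul, map_mul, psi_w, psi_u]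

theorem gen_par : ∀ q : Par, ∃ i j k : Fin 5,
    q = mulP ((List.replicate i.val ((1 : F25), (0 : Fin 5))).foldl mulP (0, 0))
      (mulP ((List.replicate j.val (F25.ofN 7, (0 : Fin 5))).foldl mulP (0, 0)) (0, k)) := by
  decide +kernel

theorem z_word : ∃ c : Fin 5, c ≠ 0 ∧
    mulP (mulP ((1 : F25), 0) (F25.ofN 7, 0)) (negP (mulP (F25.ofN 7, 0) ((1 : F25), 0))) = (0, c) :=
  ⟨(mulP (mulP ((1 : F25), 0) (F25.ofN 7, 0)) (negP (mulP (F25.ofN 7, 0) ((1 : F25), 0)))).2,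
    by decide +kernel⟩

theorem central_mul : ∀ c k : Fin 5, mulP (0, c) (0, k) = (0, c + k) := by decide +kernel

theorem central_comm : ∀ (c : Fin 5) (p : Par), mulP (0, c) p = mulP p (0, c) := by decide +kernel

/-- A subgroup with one non-trivial central root element has all of them. -/
theorem central_all {H : Subgroup G35} {c : Fin 5} (hc : c ≠ 0) (h : u (0, c) ∈ H) (k : Fin 5) :
    u (0, k) ∈ H := by
  have hn : ∀ n : ℕ, (u (0, c)) ^ n = u (0, (List.replicate n c).foldl (· + ·) 0) := by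
    intro n
    induction n with
    | zero => simp [u_zero]
    | succ n ih =>
      rw [pow_succ, ih, u_mul, central_mul, List.replicate_succ', List.foldl_append]
      rfl
  have key : ∀ c k : Fin 5, c ≠ 0 → ∃ n : Fin 5, (List.replicate n.val c).foldl (· + ·) 0 = k := by
    decide +kernel
  obtain ⟨n, hk⟩ := key c k hc
  rw [← hk, ← hn]
  exact pow_mem h _

theorem par_mem {H : Subgroup G35} (h1 : u (1, 0) ∈ H) (h2 : u (F25.ofN 7, 0) ∈ H) (q : Par) :
    u q ∈ H := by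
  obtain ⟨c, hc, hz⟩ := z_word
  have hz' : u (0, c) ∈ H := by
    rw [← hz, ← u_mul, ← u_inv, ← u_mul, ← u_mul]
    exact mul_mem (mul_mem h1 h2) (inv_mem (mul_mem h2 h1))
  have hfold : ∀ (g : Par), u g ∈ H → ∀ (n : ℕ) (z : Par), u z ∈ H →
      u ((List.replicate n g).foldl mulP z) ∈ H := by
    intro g hg n
    induction n with
    | zero => exact fun z hz => hz
    | succ n ih =>
      intro z hz
      rw [List.replicate_succ, List.foldl_cons]
      exact ih _ (by rw [← u_mul]; exact mul_mem hz hg)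
  have h0 : u (0, 0) ∈ H := by rw [u_zero]; exact one_mem H
  obtain ⟨i, j, k, rfl⟩ := gen_par q
  rw [← u_mul, ← u_mul]
  exact mul_mem (hfold _ h1 _ _ h0) (mul_mem (hfold _ h2 _ _ h0) (central_all hc hz' k))

theorem w_word : uMat (0, 1) * (wMat * uMat (0, 2) * wMat) * uMat (0, 1) = wMat * tMat (F25.ofN 10) ∧
    uMat (1, 2) * (wMat * uMat (F25.ofN 12, 2) * wMat) * uMat (F25.ofN 17, 2) = wMat * tMat (F25.ofN 12) ∧
    F25.ofN 10 ≠ 0 ∧ F25.ofN 12 ≠ 0 ∧ F25.ofN 16 ≠ 0 ∧ F25.ofN 10 * F25.ofN 16 = F25.ofN 12 := by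
  decide +kernel

theorem sc_pow : ∀ l : F25, l ≠ 0 → ∃ n : Fin 24, (List.replicate n.val (F25.ofN 16)).foldl (· * ·) 1 = l := by
  decide +kernel

theorem eq_top_of_gens {H : Subgroup G35} (h1 : u (1, 0) ∈ H) (h2 : u (F25.ofN 7, 0) ∈ H)
    (h3 : v (1, 0) ∈ H) (h4 : v (F25.ofN 7, 0) ∈ H) : H = ⊤ := by
  have hu : ∀ q, u q ∈ H := par_mem h1 h2
  have hv : ∀ q, v q ∈ H := by
    have h : ∀ g : G35, g ∈ H.comap (MulAut.conj w).toMonoidHom ↔ w * g * w ∈ H := fun g => by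
      rw [mem_conj, w_inv]
    exact fun q => (h (u q)).1 (par_mem ((h _).2 h3) ((h _).2 h4) q)
  obtain ⟨e1, e2, n1, n2, n3, hd⟩ := w_word
  have q1 : w * t ⟨_, n1⟩ ∈ H := by
    have : w * t ⟨_, n1⟩ = u (0, 1) * v (0, 2) * u (0, 1) := psi_injective (by
      simp only [map_mul, psi_u, psi_v, psi_w, psi_t]; exact e1.symm)
    rw [this]
    exact mul_mem (mul_mem (hu _) (hv _)) (hu _)
  have q2 : w * t ⟨_, n2⟩ ∈ H := by
    have : w * t ⟨_, n2⟩ = u (1, 2) * v (F25.ofN 12, 2) * u (F25.ofN 17, 2) := psi_injective (by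
      simp only [map_mul, psi_u, psi_v, psi_w, psi_t]; exact e2.symm)
    rw [this]
    exact mul_mem (mul_mem (hu _) (hv _)) (hu _)
  have q3 : t ⟨_, n3⟩ ∈ H := by
    have : t ⟨_, n3⟩ = (w * t ⟨_, n1⟩)⁻¹ * (w * t ⟨_, n2⟩) := by
      rw [show t ⟨_, n2⟩ = t ⟨_, n1⟩ * t ⟨_, n3⟩ by
        rw [t_mul]; exact congrArg t (Subtype.ext hd.symm)]
      group
    rw [this]
    exact mul_mem (inv_mem q1) q2
  have ht : ∀ l, t l ∈ H := by
    intro l
    obtain ⟨n, hn⟩ := sc_pow l.1 l.2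
    have key : ∀ (n : ℕ) (z : Sc), t z ∈ H → ∀ m : Sc,
        (List.replicate n (F25.ofN 16)).foldl (· * ·) z.1 = m.1 → t m ∈ H := by
      intro n
      induction n with
      | zero =>
        intro z hz m hm
        rwa [show m = z from Subtype.ext hm.symm]
      | succ n ih =>
        intro z hz m hm
        rw [List.replicate_succ, List.foldl_cons] at hm
        exact ih (mulS z ⟨_, n3⟩) (by rw [← t_mul]; exact mul_mem hz q3) m hm
    exact key n.val ⟨1, one_ne_zero⟩ (by rw [t_one]; exact one_mem H) l hn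
  have hw : w ∈ H := by
    have := mul_mem q1 (inv_mem (ht ⟨_, n1⟩))
    rwa [mul_inv_cancel_right] at this
  rw [eq_top_iff]
  intro g _
  obtain ⟨⟨x, b⟩, rfl⟩ := nf_surjective g
  refine mul_mem ?_ (mul_mem (hu _) (ht _))
  rcases x with _ | p
  · exact one_mem H
  · exact mul_mem (hu p) hw

/-- Evaluation of a word in three matrices. -/
def evalM (a b c : Matrix (Fin 3) (Fin 3) F25) : List (Fin 3) → Matrix (Fin 3) (Fin 3) F25
  | [] => 1
  | i :: l => ![a, b, c] i * evalM a b c l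

theorem evalM_mem {H : Subgroup G35} {a b c : G35} (ha : a ∈ H) (hb : b ∈ H) (hc : c ∈ H) :
    ∀ l : List (Fin 3), ∀ g : G35, evalM (psi a) (psi b) (psi c) l = psi g → g ∈ H
  | [], g, h => by
    rw [show g = 1 from psi_injective (h.symm.trans (map_one psi).symm)]
    exact one_mem H
  | i :: l, g, h => by
    have hi : ![a, b, c] i ∈ H := by fin_cases i <;> assumption
    have he : evalM (psi a) (psi b) (psi c) l = psi ((![a, b, c] i)⁻¹ * g) := by
      rw [map_mul, ← h, evalM, show ![psi a, psi b, psi c] i = psi (![a, b, c] i) by fin_cases i <;> rfl,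
        ← mul_assoc, ← map_mul, inv_mul_cancel, map_one, one_mul]
    have := mul_mem hi (evalM_mem ha hb hc l _ he)
    rwa [mul_inv_cancel_left] at this

/-- The three matrices attached to a parameter. -/
def triM (a : F25) (l : List (Fin 3)) : Matrix (Fin 3) (Fin 3) F25 :=
  evalM (uMat (0, 1)) (wMat * uMat (0, 1) * wMat)
    (uMat (a, 0) * (wMat * uMat (0, 1) * wMat) * uMat (negP (a, 0))) l

theorem words :
    (triM 1 [0, 1, 0, 1, 1, 1, 2, 2, 2, 0, 2] = uMat (1, 0) ∧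
      triM 1 [0, 0, 0, 1, 2, 0, 2, 1, 1, 2, 0, 0, 1, 2, 1] = uMat (F25.ofN 7, 0) ∧
      triM 1 [0, 1, 1, 1, 1, 0, 2, 1, 2] = wMat * uMat (1, 0) * wMat ∧
      triM 1 [0, 1, 2, 1, 1, 1, 2, 0, 1, 1, 2, 0, 1] = wMat * uMat (F25.ofN 7, 0) * wMat) ∧
    (triM (F25.ofN 7) [0, 1, 1, 2, 1, 0, 1, 1, 2, 0, 2, 2, 1] = uMat (1, 0) ∧
      triM (F25.ofN 7) [0, 1, 0, 1, 1, 1, 2, 2, 2, 0, 2] = uMat (F25.ofN 7, 0) ∧
      triM (F25.ofN 7) [0, 0, 2, 0, 1, 0, 0, 2, 1, 2, 2, 0, 1] = wMat * uMat (1, 0) * wMat ∧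
      triM (F25.ofN 7) [0, 1, 0, 0, 0, 2, 2, 2, 1, 2, 1] = wMat * uMat (F25.ofN 7, 0) * wMat) ∧
    (triM (F25.ofN 21) [1, 1, 1, 1, 2, 0, 2, 1, 0, 2, 2, 2, 1, 1] = uMat (1, 0) ∧
      triM (F25.ofN 21) [1, 2, 0, 0, 1, 1, 1, 2, 2, 0, 2, 1, 1, 1] = uMat (F25.ofN 7, 0) ∧
      triM (F25.ofN 21) [1, 2, 0, 2, 2, 1, 2, 0, 1, 2, 2, 0] = wMat * uMat (1, 0) * wMat ∧
      triM (F25.ofN 21) [0, 1, 2, 0, 0, 2, 1, 0, 1, 2, 2, 0, 1] = wMat * uMat (F25.ofN 7, 0) * wMat) := by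
  decide +kernel

theorem tri_top_base {H : Subgroup G35} {a : F25}
    (ha : a = 1 ∨ a = F25.ofN 7 ∨ a = F25.ofN 21) (h1 : u (0, 1) ∈ H) (h2 : v (0, 1) ∈ H)
    (h3 : u (a, 0) * v (0, 1) * (u (a, 0))⁻¹ ∈ H) : H = ⊤ := by
  have key : ∀ (g : G35) (l : List (Fin 3)), triM a l = psi g → g ∈ H := fun g l hl => by
    refine evalM_mem h1 h2 h3 l g ?_
    rw [psi_u, psi_v, map_mul, map_mul, u_inv, psi_u, psi_u, psi_v]
    exact hl
  obtain ⟨⟨a1, a2, a3, a4⟩, ⟨b1, b2, b3, b4⟩, c1, c2, c3, c4⟩ := words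
  rcases ha with rfl | rfl | rfl
  · exact eq_top_of_gens (key _ _ (a1.trans (psi_u _).symm)) (key _ _ (a2.trans (psi_u _).symm))
      (key _ _ (a3.trans (psi_v _).symm)) (key _ _ (a4.trans (psi_v _).symm))
  · exact eq_top_of_gens (key _ _ (b1.trans (psi_u _).symm)) (key _ _ (b2.trans (psi_u _).symm))
      (key _ _ (b3.trans (psi_v _).symm)) (key _ _ (b4.trans (psi_v _).symm))
  · exact eq_top_of_gens (key _ _ (c1.trans (psi_u _).symm)) (key _ _ (c2.trans (psi_u _).symm))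
      (key _ _ (c3.trans (psi_v _).symm)) (key _ _ (c4.trans (psi_v _).symm))

theorem actP_central : ∀ (l : Sc) (c : Fin 5), (actP l (0, c)).1 = 0 ∧ (c ≠ 0 → (actP l (0, c)).2 ≠ 0) := by
  decide +kernel

theorem a_classes' : ∀ a : F25, a ≠ 0 → ∃ l : Sc, (actP l (1, 0)).1 = a ∨
    (actP l (F25.ofN 7, 0)).1 = a ∨ (actP l (F25.ofN 21, 0)).1 = a := by
  decide +kernel

theorem a_classes (a : F25) (ha : a ≠ 0) : ∃ (l : Sc) (b : F25),
    (b = 1 ∨ b = F25.ofN 7 ∨ b = F25.ofN 21) ∧ (actP l (b, 0)).1 = a := by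
  obtain ⟨l, h | h | h⟩ := a_classes' a ha
  · exact ⟨l, _, Or.inl rfl, h⟩
  · exact ⟨l, _, Or.inr (Or.inl rfl), h⟩
  · exact ⟨l, _, Or.inr (Or.inr rfl), h⟩

/-- A lower central root element conjugated by the torus. -/
theorem t_v (l : Sc) (c : Fin 5) (hc : c ≠ 0) : ∃ c' : Fin 5, c' ≠ 0 ∧ t l * v (0, c) * (t l)⁻¹ = v (0, c') := by
  obtain ⟨m, hm⟩ := w_t' l
  refine ⟨(actP m (0, c)).2, (actP_central m c).2 hc, ?_⟩
  have e1 : t l = w * t m * w := by
    rw [mul_assoc, ← hm, ← mul_assoc, w_mul_w, one_mul]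
  rw [show ((0 : F25), (actP m (0, c)).2) = actP m (0, c) from Prod.ext (actP_central m c).1.symm rfl]
  rw [v, v, e1, ← t_u_conj]
  simp only [mul_inv_rev, w_inv, mul_assoc]
  simp only [← mul_assoc w w, w_mul_w, one_mul]

/-- Conjugation by a central root element fixes the parameter. -/
theorem split_par (p : Par) : ∃ c : Fin 5, u p = u (0, c) * u (p.1, 0) := by
  have key : ∀ p : Par, ∃ c : Fin 5, mulP (0, c) (p.1, 0) = p := by decide +kernel
  obtain ⟨c, hc⟩ := key p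
  exact ⟨c, by rw [u_mul, hc]⟩

theorem lower_all {H : Subgroup G35} {c : Fin 5} (hc : c ≠ 0) (h : v (0, c) ∈ H) (k : Fin 5) :
    v (0, k) ∈ H := by
  have h' : ∀ g : G35, g ∈ H.comap (MulAut.conj w).toMonoidHom ↔ w * g * w ∈ H := fun g => by
    rw [mem_conj, w_inv]
  exact (h' _).1 (central_all hc ((h' _).2 h) k)

theorem conj_central {H : Subgroup G35} {p : Par} {c : Fin 5} (hc : c ≠ 0)
    (h : u p * v (0, c) * (u p)⁻¹ ∈ H) (k : Fin 5) : u p * v (0, k) * (u p)⁻¹ ∈ H :=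
  mem_conj.1 (lower_all (H := H.comap (MulAut.conj (u p)).toMonoidHom) hc (mem_conj.2 h) k)

theorem tri_top {H : Subgroup G35} (hz : ∀ k, u (0, k) ∈ H) (hv : ∀ k, v (0, k) ∈ H) (p : Par)
    (hp : p.1 ≠ 0) (h : ∀ k, u p * v (0, k) * (u p)⁻¹ ∈ H) : H = ⊤ := by
  obtain ⟨l, b, hb, hl⟩ := a_classes p.1 hp
  have ha : ∀ k, u (p.1, 0) * v (0, k) * (u (p.1, 0))⁻¹ ∈ H := fun k => by
    obtain ⟨c, hc⟩ := split_par p
    have := mul_mem (mul_mem (inv_mem (hz c)) (h k)) (hz c)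
    rw [hc] at this
    simpa [mul_assoc] using this
  have key : H.comap (MulAut.conj (t l)).toMonoidHom = ⊤ := by
    refine tri_top_base hb ?_ ?_ ?_
    · rw [mem_conj]
      rw [t_u_conj, show actP l (0, 1) = (0, (actP l (0, 1)).2) from
        Prod.ext (actP_central l 1).1 rfl]
      exact hz _
    · rw [mem_conj]
      obtain ⟨c', -, e⟩ := t_v l 1 (by decide)
      rw [e]
      exact hv _
    · rw [mem_conj]
      obtain ⟨c', -, e⟩ := t_v l 1 (by decide)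
      obtain ⟨c, hc⟩ := split_par (actP l (b, 0))
      rw [hl] at hc
      have e' : t l * (u (b, 0) * v (0, 1) * (u (b, 0))⁻¹) * (t l)⁻¹ =
          (t l * u (b, 0) * (t l)⁻¹) * (t l * v (0, 1) * (t l)⁻¹) *
            (t l * u (b, 0) * (t l)⁻¹)⁻¹ := by group
      rw [e', t_u_conj, e, hc]
      have := mul_mem (mul_mem (hz c) (ha c')) (inv_mem (hz c))
      simpa [mul_assoc] using this
  exact eq_top_of_conj key

end Cfsg.Agent.U35
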